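import Cfsg.Agent.Helper82.PRB.Defs
import Cfsg.Agent.Helper16.DT.Defs

/-!
# The irreducible Brauer characters of a block as a basis (helper82, for S4712)

From the canonical form of the main theorem of decomposition theory (helper16's DT farm, helper23's
`dt_main_canon`): `IBrIn p M b` is linearly independent and spans the same space as the
restrictions to the `p`-regular elements of the members of `b`.
-/

set_option autoImplicit false
set_option linter.unusedSectionVars false

namespace Cfsg.Agent.Helper82.PRB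

open Cfsg Cfsg.Agent.Helper16 Cfsg.Agent.Helper16.DT

universe u

variable {H : Type u} [Group H] [Fintype H] {M : Ideal AlgInt} {p : ℕ}

/-- (DTC), from the canonical main theorem taken as a hypothesis. -/
theorem IBrIn_basis_of [M.IsMaximal] (b : Set (IrrCharacter H))
    (h : ∃ S : Finset (H → ℂ), (↑S : Set (H → ℂ)) = IBrIn p M b ∧
      LinearIndependent ℂ (fun φ : S => (φ : H → ℂ)) ∧
      S.card = blockRank p b ∧
      (∀ χ ∈ b, ∃ d : (H → ℂ) → ℕ, pRegularPart p (χ : H → ℂ) = ∑ φ ∈ S, (d φ : ℂ) • φ) ∧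
      (∀ φ ∈ S, ∃ a : IrrCharacter H → ℤ,
        φ = ∑ᶠ χ ∈ b, (a χ : ℂ) • pRegularPart p (χ : H → ℂ)) ∧
      (∀ φ ∈ S, ∃ n : ℕ, 0 < n ∧ φ 1 = n)) :
    LinearIndependent ℂ (fun φ : IBrIn p M b => (φ : H → ℂ)) ∧
      Submodule.span ℂ (IBrIn p M b) =
        Submodule.span ℂ ((fun χ : IrrCharacter H => pRegularPart p (χ : H → ℂ)) '' b) := by
  classical
  obtain ⟨S, hS, hind, -, h3, h4, -⟩ := h
  have hfin : Finite (IrrCharacter H) := Cfsg.Agent.Helper79.irr_finite
  constructor
  · have h1 : LinearIndependent ℂ (fun φ : (↑S : Set (H → ℂ)) => (φ : H → ℂ)) := hind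
    rw [hS] at h1
    exact h1
  · rw [← hS]
    apply le_antisymm
    · rw [Submodule.span_le]
      intro φ hφ
      obtain ⟨a, ha⟩ := h4 φ (Finset.mem_coe.mp hφ)
      rw [SetLike.mem_coe, ha, finsum_mem_eq_finite_toFinset_sum _ (Set.toFinite b)]
      refine Submodule.sum_mem _ (fun χ hχ => ?_)
      refine Submodule.smul_mem _ _ (Submodule.subset_span ⟨χ, ?_, rfl⟩)
      simpa using hχ
    · rw [Submodule.span_le]
      rintro _ ⟨χ, hχ, rfl⟩
      obtain ⟨d, hd⟩ := h3 χ hχ
      rw [SetLike.mem_coe]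
      show pRegularPart p (χ : H → ℂ) ∈ _
      rw [hd]
      refine Submodule.sum_mem _ (fun φ hφ => ?_)
      exact Submodule.smul_mem _ _ (Submodule.subset_span (Finset.mem_coe.mpr hφ))

end Cfsg.Agent.Helper82.PRB
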