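import Mathlib
import Cfsg.Prelude.Def_BlockRank
import Cfsg.Agent.Helper16.SubsectionCount
import Cfsg.Agent.Helper16.HeightBound
import Cfsg.Agent.Helper78.InducedTrans
import Cfsg.Agent.Helper82.GaloisConj

/-!
# `p`-rational characters in a block: shared definitions (helper82, for S4712)

`twN B m g = ∑_{ζ ∈ B} ζ (g ^ m) * conj (ζ g)`: the twisted block norm function.  For `m` prime to
`|G|` the sum of `twN B m` over `G` is `|G|` times the number of members of `B` fixed by the Galois
twist `ζ ↦ ζ (· ^ m)`.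
-/

set_option autoImplicit false
set_option linter.unusedSectionVars false

namespace Cfsg.Agent.Helper82.PRB

open Cfsg
open scoped ComplexConjugate

universe u

open Classical in
/-- The twisted block norm function `g ↦ ∑_{ζ ∈ B} ζ (g ^ m) * conj (ζ g)`. -/
noncomputable def twN {G : Type u} [Group G] [Fintype G] (B : Set (IrrCharacter G)) (m : ℕ)
    (g : G) : ℂ :=
  ∑ ζ : IrrCharacter G, (if ζ ∈ B then (1 : ℂ) else 0) *
    ((ζ : G → ℂ) (g ^ m) * conj ((ζ : G → ℂ) g))

open Classical in
theorem twN_def {G : Type u} [Group G] [Fintype G] (B : Set (IrrCharacter G)) (m : ℕ) (g : G) :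
    twN B m g = ∑ ζ : IrrCharacter G, (if ζ ∈ B then (1 : ℂ) else 0) *
      ((ζ : G → ℂ) (g ^ m) * conj ((ζ : G → ℂ) g)) := rfl

/-- `twN B m` is a class function. -/
theorem isClassFunction_twN {G : Type u} [Group G] [Fintype G] (B : Set (IrrCharacter G)) (m : ℕ) :
    IsClassFunction G (twN B m) := by
  classical
  intro g t
  rw [twN_def, twN_def]
  refine Finset.sum_congr rfl (fun ζ _ => ?_)
  have h1 : (t * g * t⁻¹) ^ m = t * g ^ m * t⁻¹ := conj_pow
  rw [h1, Cfsg.Agent.Helper16.irr_isClassFunction ζ g t,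
    Cfsg.Agent.Helper16.irr_isClassFunction ζ (g ^ m) t]

end Cfsg.Agent.Helper82.PRB
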