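import Cfsg.Agent.Helper82.PRB.Defs
import Cfsg.Agent.Helper82.PRB.DTC
import Cfsg.Agent.Helper16.DT.Defs
import Cfsg.Agent.Helper77.BlockRank
import Cfsg.Agent.Helper23.DT_MN4
import Cfsg.Agent.Helper29.PRB_GEN
import Cfsg.Agent.Helper74.PRB_CNT
import Cfsg.Agent.Helper74.PRB_SEC1
import Cfsg.Agent.Helper87.PRB_SEC0
import Cfsg.Agent.Helper87.PRB_NORM
import Cfsg.Agent.Helper16.PRB_SECF
import Cfsg.Agent.Helper70.PRB_NN
import Cfsg.Agent.Helper70.PRB_AUT

/-!
# S4712: for `p` odd, a `p`-block `B` has at least `blockRank p B` `p`-rational irreducible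
characters (helper82; assembly of the PRB farm, on top of helper16's DT farm)

`m` generates the `p`-part of the units modulo `|G|` and is `1` modulo the `p'`-part.  `|G|` times the
number of members of `B` fixed by `ζ ↦ ζ (· ^ m)` is the sum of `twN B m` over `G`; split into
`p`-sections.  The section of `1` gives `|G| * blockRank p B`; a section whose `p`-element `z` is not
conjugate to `z ^ m` gives `0`; a section with `z ^ m = t z t⁻¹` gives `|C_G(z)|` times the number of
irreducible Brauer characters, in the blocks of `C_G(z)` inducing `B`, fixed by conjugation with `t`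
(Brauer's permutation lemma on the columns of the generalized decomposition matrix).
-/

set_option autoImplicit false
set_option linter.unusedSectionVars false
set_option linter.unusedVariables false

namespace Cfsg.Agent.Helper82.PRB

open Cfsg Cfsg.Agent.Helper16 Cfsg.Agent.Helper16.DT
open scoped ComplexConjugate

universe u

/-- (DTC) the irreducible Brauer characters of a block form a basis of the span of the restrictions
of its characters to the `p`-regular elements. -/
theorem IBrIn_basis {H : Type u} [Group H] [Fintype H] {M : Ideal AlgInt} {p : ℕ} [Fact p.Prime]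
    [M.IsMaximal] (hM : IsPModular p M) (b : Set (IrrCharacter H)) (hb : IsPBlock M b) :
    LinearIndependent ℂ (fun φ : IBrIn p M b => (φ : H → ℂ)) ∧
      Submodule.span ℂ (IBrIn p M b) =
        Submodule.span ℂ ((fun χ : IrrCharacter H => pRegularPart p (χ : H → ℂ)) '' b) :=
  IBrIn_basis_of b (Cfsg.Agent.Helper23.DT.dt_main_canon hM b hb)

/-! ## Assembly (helper82) -/

section Main

open Classical in
/-- The count of fixed characters. -/
theorem blockRank_le_card_fixed {G : Type u} [Group G] [Fintype G] {p : ℕ} [Fact p.Prime]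
    {M : Ideal AlgInt} (hM : IsPModular p M) (B : Set (IrrCharacter G)) (hB : IsPBlock M B)
    (m : ℕ) (hmc : m.Coprime (Nat.card G))
    (hm1 : m ≡ 1 [MOD Nat.card G / p ^ (Nat.card G).factorization p]) :
    blockRank p B ≤ Nat.card {χ : IrrCharacter G // χ ∈ B ∧
        ∀ g : G, (χ : G → ℂ) (g ^ m) = (χ : G → ℂ) g} := by
  haveI : M.IsMaximal := hM.2.1
  haveI : ∀ x : G, Fintype (Subgroup.centralizer ({x} : Set G)) := fun x => Fintype.ofFinite _
  have hcard : (Nat.card G : ℂ) ≠ 0 := Helper79.card_ne_zero_complex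
  obtain ⟨X, hX, hXrep⟩ := Helper16.exists_pSection_reps (G := G) p
  have h1X : (1 : G) ∈ X := by
    obtain ⟨x, ⟨hxX, hx1⟩, -⟩ := hXrep 1 ⟨0, by simp⟩
    have : x = 1 := by
      obtain ⟨c, hc⟩ := isConj_iff.mp hx1
      rw [← hc]; simp
    rwa [this] at hxX
  have hcnt := Cfsg.Agent.Helper74.PRB.card_fixed_mul_eq_sum_twN B m hmc
  have hsec := Helper16.sum_eq_sum_pSections X hX hXrep (isClassFunction_twN B m)
  -- every section contributes a natural number
  have hN : ∀ x : G, ∃ N : ℕ, x ∈ X →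
      (∑ y : Subgroup.centralizer ({x} : Set G),
        (if ¬ p ∣ orderOf y then twN B m (x * (y : G)) else 0) =
        (Nat.card (Subgroup.centralizer ({x} : Set G)) : ℂ) * (N : ℂ)) ∧
      (x = 1 → N = blockRank p B) := by
    intro x
    by_cases hx1 : x = 1
    · subst hx1
      exact ⟨blockRank p B, fun _ => ⟨Cfsg.Agent.Helper74.PRB.section_one hM hB m hm1, fun _ => rfl⟩⟩
    by_cases hxX : x ∈ X
    swap
    · exact ⟨0, fun h => absurd h hxX⟩
    have hxp := hX x hxX
    by_cases hc : IsConj x (x ^ m)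
    · obtain ⟨t, ht⟩ := isConj_iff.mp hc
      obtain ⟨σ, hσ⟩ := Cfsg.Agent.Helper87.PRB.exists_conjEquiv_centralizer m hmc x t ht
      set 𝔟 := (Helper77.blocksFinset M (Subgroup.centralizer ({x} : Set G))).filter
        (fun b => IsInducedBlock M (Subgroup.centralizer ({x} : Set G)) b B) with h𝔟def
      have h𝔟 : ∀ b ∈ 𝔟, IsPBlock M b := by
        intro b hb
        rw [h𝔟def, Finset.mem_filter, Helper77.mem_blocksFinset] at hb
        exact hb.1
      obtain ⟨N, hNeq⟩ := Cfsg.Agent.Helper70.PRB.twisted_norm_nat (p := p) hM σ 𝔟 h𝔟 (fun b => IBrIn p M b)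
        (fun b hb => (IBrIn_basis hM b (h𝔟 b hb)).1)
        (fun b hb => (IBrIn_basis hM b (h𝔟 b hb)).2)
        (by
          intro b hb
          refine ⟨?_, fun φ hφ => Cfsg.Agent.Helper70.PRB.IBrIn_irrMap σ b hφ⟩
          rw [h𝔟def, Finset.mem_filter, Helper77.mem_blocksFinset] at hb ⊢
          exact ⟨Helper77.isPBlock_image_irrMap σ hb.1,
            Helper78.isInducedBlock_conj_transport σ t hσ hb.2⟩)
      refine ⟨N, fun _ => ⟨?_, fun h => absurd h hx1⟩⟩
      rw [← hNeq]
      refine Finset.sum_congr rfl (fun y _ => ?_)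
      by_cases hy : p ∣ orderOf y
      · rw [if_neg (not_not.mpr hy), if_neg (not_not.mpr hy)]
      · rw [if_pos hy, if_pos hy]
        exact Cfsg.Agent.Helper16.PRB.twN_eq_of_conj hM hB m hm1 x hxp t ht σ hσ y hy
    · refine ⟨0, fun _ => ⟨?_, fun h => absurd h hx1⟩⟩
      rw [Nat.cast_zero, mul_zero]
      refine Finset.sum_eq_zero (fun y _ => ?_)
      by_cases hy : p ∣ orderOf y
      · rw [if_neg (not_not.mpr hy)]
      · rw [if_pos hy]
        exact Cfsg.Agent.Helper87.PRB.twN_eq_zero_of_not_isConj hM hB m hm1 x hxp hc y hy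
  choose N hN using hN
  have h3 : ∑ g : G, twN B m g = (Nat.card G : ℂ) * ((∑ x ∈ X, N x : ℕ) : ℂ) := by
    rw [hsec, Nat.cast_sum, Finset.mul_sum]
    refine Finset.sum_congr rfl (fun x hx => ?_)
    rw [(hN x hx).1]
    have hCx : (Nat.card (Subgroup.centralizer ({x} : Set G)) : ℂ) ≠ 0 :=
      Helper79.card_ne_zero_complex
    field_simp
  rw [h3] at hcnt
  have h4 := mul_left_cancel₀ hcard hcnt
  have h5 : Nat.card {χ : IrrCharacter G // χ ∈ B ∧
        ∀ g : G, (χ : G → ℂ) (g ^ m) = (χ : G → ℂ) g} = ∑ x ∈ X, N x := by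
    exact_mod_cast h4
  rw [h5, ← (hN 1 h1X).2 rfl]
  exact Finset.single_le_sum (f := N) (fun _ _ => Nat.zero_le _) h1X

/-- S4712. -/
theorem s4712 {G : Type*} [Group G] [Finite G] (p : ℕ) [Fact p.Prime] (hodd : p ≠ 2)
    (M : Ideal Cfsg.AlgInt) (hM : Cfsg.IsPModular p M) (B : Set (Cfsg.IrrCharacter G))
    (hB : Cfsg.IsPBlock M B) :
    Cfsg.blockRank p B ≤ Nat.card {χ : Cfsg.IrrCharacter G // χ ∈ B ∧ ∀ k : ℕ,
      Nat.Coprime k (Nat.card G) →
      k ≡ 1 [MOD Nat.card G / p ^ (Nat.card G).factorization p] →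
      ∀ g : G, (χ : G → ℂ) (g ^ k) = (χ : G → ℂ) g} := by
  classical
  haveI := Fintype.ofFinite G
  obtain ⟨m, hmc, hm1, hgen⟩ :=
    Cfsg.Agent.Helper29.PRB.exists_pGalois_generator (Nat.card G) p Nat.card_pos (Fact.out : p.Prime) hodd
  refine le_trans (blockRank_le_card_fixed hM B hB m hmc hm1) ?_
  refine Nat.card_le_card_of_injective
    (fun x => ⟨x.1, x.2.1, fun k hk hk1 g => ?_⟩) ?_
  · obtain ⟨j, hj⟩ := hgen k hk hk1
    have hpow : g ^ k = g ^ (m ^ j) := by
      rw [pow_eq_pow_iff_modEq]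
      exact hj.of_dvd (orderOf_dvd_natCard g)
    rw [hpow]
    clear hpow hj
    induction j generalizing g with
    | zero => simp
    | succ j ih =>
      rw [pow_succ, pow_mul, x.2.2 (g ^ m ^ j), ih]
  · intro x y hxy
    apply Subtype.ext
    exact congrArg (fun w => w.1) hxy

end Main

end Cfsg.Agent.Helper82.PRB
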